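import Cfsg.Agent.Invol.BrauerFowler
import Cfsg.Agent.Perm.MinimalNormal
import Mathlib.GroupTheory.PGroup
import Mathlib.GroupTheory.Index
import Mathlib.GroupTheory.Perm.Cycle.Type

/-!
# Groups with a four group whose involutions have bounded centralizers

The order of such a group is bounded in terms of the bound and of the order of a Sylow 2-subgroup.
-/

set_option autoImplicit false
set_option linter.style.haveILetI false
set_option linter.unusedSectionVars false

namespace CfsgLib.DeficiencyBound

open Subgroup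

universe u

variable {G : Type u} [Group G] [Finite G]

/-- The centralizer of an element, as a cardinal. -/
noncomputable def cc (x : G) : ℕ := Nat.card (centralizer ({x} : Set G))

/-- Centralizers in a quotient grow by at most the order of the kernel. -/
theorem cc_map_le {Q : Type u} [Group Q] [Finite Q] (π : G →* Q) (hπ : Function.Surjective π)
    (v : G) : cc (π v) ≤ Nat.card π.ker * cc v := by
  classical
  set Y := (centralizer ({π v} : Set Q)).comap π
  have hY : Nat.card (centralizer ({π v} : Set Q)) ≤ Nat.card Y := by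
    refine Nat.card_le_card_of_surjective (fun y : Y => (⟨π (y : G), y.2⟩ : centralizer ({π v} : Set Q)))
      fun q => ?_
    obtain ⟨g, hg⟩ := hπ (q : Q)
    exact ⟨⟨g, show π g ∈ centralizer ({π v} : Set Q) by rw [hg]; exact q.2⟩, Subtype.ext hg⟩
  refine hY.trans ?_
  have hker : ∀ y : Y, (y : G) * v * (y : G)⁻¹ * v⁻¹ ∈ π.ker := fun y => by
    have h : π y * π v = π v * π y := mem_centralizer_singleton_iff.1 y.2
    rw [MonoidHom.mem_ker, map_mul, map_mul, map_mul, map_inv, map_inv, h]
    group
  let c : Y → π.ker := fun y => ⟨_, hker y⟩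
  let rep : π.ker → G := fun k => if h : ∃ y : Y, c y = k then ((h.choose : Y) : G) else 1
  have hrep : ∀ y : Y, rep (c y) * v * (rep (c y))⁻¹ = (y : G) * v * (y : G)⁻¹ := fun y => by
    have hex : ∃ z : Y, c z = c y := ⟨y, rfl⟩
    simp only [rep, dif_pos hex]
    have := congrArg Subtype.val hex.choose_spec
    exact mul_right_cancel this
  show _ ≤ Nat.card π.ker * Nat.card (centralizer ({v} : Set G))
  rw [← Nat.card_prod]
  refine Nat.card_le_card_of_injective
    (fun y : Y => (c y, (⟨(rep (c y))⁻¹ * y, ?_⟩ : centralizer ({v} : Set G)))) ?_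
  · rw [mem_centralizer_singleton_iff]
    calc (rep (c y))⁻¹ * y * v = (rep (c y))⁻¹ * ((y : G) * v * (y : G)⁻¹) * y := by group
      _ = (rep (c y))⁻¹ * (rep (c y) * v * (rep (c y))⁻¹) * y := by rw [hrep]
      _ = v * ((rep (c y))⁻¹ * y) := by group
  · intro y z h
    simp only [Prod.mk.injEq, Subtype.mk.injEq] at h
    rw [h.1] at h
    exact Subtype.ext (mul_left_cancel h.2)

/-- An odd subgroup normalized by two commuting involutions is bounded by the centralizers. -/
theorem odd_card_le {O : Subgroup G} (hodd : Odd (Nat.card O)) {s t : G} (hs : s * s = 1)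
    (ht : t * t = 1) (hst : s * t = t * s) (hsO : ∀ x ∈ O, s * x * s ∈ O)
    (htO : ∀ x ∈ O, t * x * t ∈ O) : Nat.card O ≤ cc s * (cc t * cc (s * t)) := by
  classical
  obtain ⟨m, hm⟩ := hodd
  have hsqO : ∀ x ∈ O, x ^ (Nat.card O) = 1 := fun x hx => by
    have h : (⟨x, hx⟩ : O) ^ Nat.card O = 1 := pow_card_eq_one'
    exact congrArg Subtype.val h
  -- square roots
  let r : G → G := fun x => x ^ (m + 1)
  have hr : ∀ x ∈ O, r x * r x = x := fun x hx => by
    show x ^ (m + 1) * x ^ (m + 1) = x
    rw [← pow_add, show m + 1 + (m + 1) = Nat.card O + 1 by omega, pow_succ, hsqO x hx, one_mul]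
  have hruniq : ∀ x y : G, x ∈ O → x * x = y → x = r y := fun x y hx h => by
    show x = y ^ (m + 1)
    rw [← h, ← sq, ← pow_mul, show 2 * (m + 1) = Nat.card O + 1 by omega, pow_succ, hsqO x hx,
      one_mul]
  have hcs : ∀ a : G, a * a = 1 → ∀ x y : G, a * (x * y) * a = (a * x * a) * (a * y * a) :=
    fun a ha x y => by
      calc a * (x * y) * a = a * x * (a * a) * y * a := by rw [ha, mul_one, mul_assoc a x y]
        _ = _ := by group
  have hpow : ∀ a : G, a * a = 1 → ∀ (x : G) (k : ℕ), a * x ^ k * a = (a * x * a) ^ k :=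
    fun a ha x k => by
      induction k with
      | zero => rw [pow_zero, mul_one, ha, pow_zero]
      | succ k ih => rw [pow_succ, hcs a ha, ih, pow_succ]
  have hinv : ∀ a : G, a * a = 1 → ∀ x : G, a * x⁻¹ * a = (a * x * a)⁻¹ := fun a ha x => by
    rw [mul_inv_rev, mul_inv_rev, inv_eq_of_mul_eq_one_right ha, mul_assoc]
  have hback : ∀ a : G, a * a = 1 → ∀ x : G, a * (a * x * a) * a = x := fun a ha x => by
    calc a * (a * x * a) * a = (a * a) * x * (a * a) := by group
      _ = x := by rw [ha, one_mul, mul_one]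
  have hmemC : ∀ a : G, a * a = 1 → ∀ x : G, a * x * a = x → x ∈ centralizer ({a} : Set G) :=
    fun a ha x h => by
      rw [mem_centralizer_singleton_iff]
      calc x * a = a * x * a * a := by rw [h]
        _ = a * x := by rw [mul_assoc (a * x), ha, mul_one]
  -- the decomposition
  have key : ∀ x : O, ∃ q : (centralizer ({s} : Set G)) ×
      (centralizer ({t} : Set G)) × (centralizer ({s * t} : Set G)),
      (x : G) = (q.1 : G) * ((q.2.1 : G) * (q.2.2 : G) * (q.2.1 : G)) := fun x => by
    set X := (x : G)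
    have hX : X ∈ O := x.2
    set z := r ((s * X * s)⁻¹ * X) with hz
    have hzz : z * z = (s * X * s)⁻¹ * X := hr _ (O.mul_mem (O.inv_mem (hsO X hX)) hX)
    have hzO : z ∈ O := O.pow_mem (O.mul_mem (O.inv_mem (hsO X hX)) hX) _
    have hzs : s * z * s = z⁻¹ := by
      show s * ((s * X * s)⁻¹ * X) ^ (m + 1) * s = (((s * X * s)⁻¹ * X) ^ (m + 1))⁻¹
      rw [hpow s hs, hcs s hs, hinv s hs, hback s hs, ← inv_pow, mul_inv_rev, inv_inv]
    have hfix : s * (X * z⁻¹) * s = X * z⁻¹ := by
      rw [hcs s hs, hinv s hs, hzs, inv_inv]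
      calc s * X * s * z = s * X * s * (z * z) * z⁻¹ := by group
        _ = X * z⁻¹ := by rw [hzz]; group
    -- split the inverted part
    set ρ := r z with hρdef
    have hρ : ρ * ρ = z := hr z hzO
    have hρO : ρ ∈ O := O.pow_mem hzO _
    have hρs : s * ρ * s = ρ⁻¹ := by
      show s * z ^ (m + 1) * s = (z ^ (m + 1))⁻¹
      rw [hpow s hs, hzs, inv_pow]
    set z' := t * z * t with hz'
    have hz'O : z' ∈ O := htO z hzO
    have hz's : s * z' * s = z'⁻¹ := by
      calc s * (t * z * t) * s = (s * t) * z * (t * s) := by group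
        _ = (t * s) * z * (s * t) := by rw [hst]
        _ = t * (s * z * s) * t := by group
        _ = z'⁻¹ := by rw [hzs, hinv t ht]
    set μ := r (ρ⁻¹ * z' * ρ⁻¹) with hμdef
    have hμarg : ρ⁻¹ * z' * ρ⁻¹ ∈ O := O.mul_mem (O.mul_mem (O.inv_mem hρO) hz'O) (O.inv_mem hρO)
    have hμ : μ * μ = ρ⁻¹ * z' * ρ⁻¹ := hr _ hμarg
    have hμO : μ ∈ O := O.pow_mem hμarg _
    have hμs : s * μ * s = μ⁻¹ := by
      show s * (ρ⁻¹ * z' * ρ⁻¹) ^ (m + 1) * s = ((ρ⁻¹ * z' * ρ⁻¹) ^ (m + 1))⁻¹
      rw [hpow s hs, hcs s hs, hcs s hs, hinv s hs, hρs, hz's]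
      simp only [← inv_pow, mul_inv_rev, inv_inv, mul_assoc]
    set S := ρ * μ * ρ with hSdef
    have hSO : S ∈ O := O.mul_mem (O.mul_mem hρO hμO) hρO
    have hSeq : S * z⁻¹ * S = z' := by
      calc S * z⁻¹ * S = ρ * μ * ρ * (ρ * ρ)⁻¹ * (ρ * μ * ρ) := by rw [hρ]
        _ = ρ * (μ * μ) * ρ := by group
        _ = z' := by rw [hμ]; group
    have hSs : s * S * s = S⁻¹ := by
      rw [hcs s hs, hcs s hs, hρs, hμs, hSdef]
      group
    have huniq : ∀ T : G, T ∈ O → T * z'⁻¹ * T = z → T = S := fun T hTO hT => by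
      have h1 : T * z⁻¹ * T = z' := by rw [← hT]; group
      have h2 : ρ⁻¹ * T * ρ⁻¹ = μ := hruniq _ _
        (O.mul_mem (O.mul_mem (O.inv_mem hρO) hTO) (O.inv_mem hρO)) (by
          calc ρ⁻¹ * T * ρ⁻¹ * (ρ⁻¹ * T * ρ⁻¹) = ρ⁻¹ * (T * (ρ * ρ)⁻¹ * T) * ρ⁻¹ := by group
            _ = _ := by rw [hρ, h1])
      rw [hSdef, ← h2]
      group
    have hSt : t * S * t = S := by
      refine huniq _ (htO S hSO) ?_
      have h := congrArg (fun w => t * w * t) hSeq
      simp only [hz', hback t ht] at h
      rw [hcs t ht, hcs t ht, hinv t ht, ← hz'] at h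
      exact h
    set y := r S with hydef
    have hy : y * y = S := hr S hSO
    have hys : s * y * s = y⁻¹ := by
      show s * S ^ (m + 1) * s = (S ^ (m + 1))⁻¹
      rw [hpow s hs, hSs, inv_pow]
    have hyt : t * y * t = y := by
      show t * S ^ (m + 1) * t = S ^ (m + 1)
      rw [hpow t ht, hSt]
    set w := y⁻¹ * z * y⁻¹ with hwdef
    have hws : s * w * s = w⁻¹ := by
      rw [hcs s hs, hcs s hs, hinv s hs, hys, hzs, hwdef]
      group
    have hwt : t * w * t = w⁻¹ := by
      rw [hcs t ht, hcs t ht, hinv t ht, hyt, ← hz', ← hSeq, ← hy, hwdef]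
      group
    have hst2 : (s * t) * (s * t) = 1 := by
      rw [← mul_assoc, mul_assoc s t s, ← hst, ← mul_assoc, hs, one_mul, ht]
    refine ⟨(⟨X * z⁻¹, hmemC s hs _ hfix⟩, ⟨y, hmemC t ht _ hyt⟩, ⟨w, hmemC _ hst2 _ ?_⟩), ?_⟩
    · calc s * t * w * (s * t) = s * t * w * (t * s) := by rw [hst]
        _ = s * (t * w * t) * s := by group
        _ = w := by rw [hwt, hinv s hs, hws, inv_inv]
    · show X = X * z⁻¹ * (y * (y⁻¹ * z * y⁻¹) * y)
      group
  choose q hq using key
  refine (Nat.card_le_card_of_injective q fun x y h => Subtype.ext ?_).trans (le_of_eq ?_)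
  · rw [hq x, hq y, h]
  · rw [Nat.card_prod, Nat.card_prod]
    rfl

/-- An action on a finite group of even order fixes an involution. -/
theorem exists_fixed_invol {N : Subgroup G} [N.Normal] (hN : Even (Nat.card N)) {s t : G}
    (hs : s * s = 1) (ht : t * t = 1) (hst : s * t = t * s) :
    ∃ u ∈ N, u * u = 1 ∧ u ≠ 1 ∧ s * u = u * s ∧ t * u = u * t := by
  classical
  haveI := Fact.mk Nat.prime_two
  let X := {x : G // x ∈ N ∧ x * x = 1}
  have heven : 2 ∣ Nat.card X := by
    letI := Fintype.ofFinite N
    have h := Equiv.Perm.card_fixedPoints_modEq (p := 2) (n := 1) (f := (fun x : N => x⁻¹)) (by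
      funext x
      show x⁻¹⁻¹ = x
      exact inv_inv x)
    rw [Fintype.card_eq_nat_card, Fintype.card_eq_nat_card] at h
    have he : Nat.card (Function.fixedPoints fun x : N => x⁻¹) = Nat.card X :=
      Nat.card_congr
        { toFun := fun x => ⟨(x.1 : G), x.1.2, by
            have := congrArg (Subtype.val : N → G) x.2
            simp only [InvMemClass.coe_inv] at this
            exact mul_eq_one_iff_eq_inv.2 this.symm⟩
          invFun := fun x => ⟨⟨x.1, x.2.1⟩, Subtype.ext (mul_eq_one_iff_eq_inv.1 x.2.2).symm⟩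
          left_inv := fun x => rfl
          right_inv := fun x => rfl }
    rw [he] at h
    exact Nat.modEq_zero_iff_dvd.1 (h.symm.trans (Nat.modEq_zero_iff_dvd.2 hN.two_dvd))
  -- fix first by one involution, then by the other
  have step : ∀ (a : G), a * a = 1 → ∀ (P : G → Prop), P 1 → (∀ x, P x → P (a * x * a)) →
      2 ∣ Nat.card {x : G // P x} → 2 ∣ Nat.card {x : G // P x ∧ a * x = x * a} := by
    intro a ha P hP1 hPa hcard
    letI := Fintype.ofFinite {x : G // P x}
    have hba : ∀ x : G, a * (a * x * a) * a = x := fun x => by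
      calc a * (a * x * a) * a = (a * a) * x * (a * a) := by group
        _ = x := by rw [ha, one_mul, mul_one]
    let f : {x : G // P x} → {x : G // P x} := fun x => ⟨a * x.1 * a, hPa _ x.2⟩
    have h := Equiv.Perm.card_fixedPoints_modEq (p := 2) (n := 1) (f := f) (by
      funext x
      simp only [pow_one, Function.iterate_succ, Function.iterate_zero, Function.id_comp,
        Function.comp_apply, id]
      exact Subtype.ext (hba x.1))
    rw [Fintype.card_eq_nat_card, Fintype.card_eq_nat_card] at h
    have he : Nat.card (Function.fixedPoints f) = Nat.card {x : G // P x ∧ a * x = x * a} :=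
      Nat.card_congr
        { toFun := fun x => ⟨x.1.1, x.1.2, by
            have h1 : a * x.1.1 * a = x.1.1 := congrArg Subtype.val x.2
            calc a * x.1.1 = a * x.1.1 * a * a := by rw [mul_assoc (a * x.1.1), ha, mul_one]
              _ = x.1.1 * a := by rw [h1]⟩
          invFun := fun x => ⟨⟨x.1, x.2.1⟩, Subtype.ext (by
            show a * x.1 * a = x.1
            rw [x.2.2, mul_assoc, ha, mul_one])⟩
          left_inv := fun x => rfl
          right_inv := fun x => rfl }
    rw [he] at h
    exact Nat.modEq_zero_iff_dvd.1 (h.symm.trans (Nat.modEq_zero_iff_dvd.2 hcard))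
  have hcl : ∀ a : G, a * a = 1 → ∀ x, (x ∈ N ∧ x * x = 1) → (a * x * a ∈ N ∧ a * x * a * (a * x * a) = 1) := by
    intro a ha x hx
    have hinv : a⁻¹ = a := inv_eq_of_mul_eq_one_right ha
    refine ⟨?_, ?_⟩
    · have := ‹N.Normal›.conj_mem x hx.1 a
      rwa [hinv] at this
    · calc a * x * a * (a * x * a) = a * x * (a * a) * x * a := by group
        _ = a * (x * x) * a := by rw [ha, mul_one, mul_assoc a x x]
        _ = 1 := by rw [hx.2, mul_one, ha]
  have h1 := step s hs _ ⟨N.one_mem, one_mul 1⟩ (fun x hx => hcl s hs x hx) heven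
  have h2 := step t ht (fun x => (x ∈ N ∧ x * x = 1) ∧ s * x = x * s)
    ⟨⟨N.one_mem, one_mul 1⟩, by rw [mul_one, one_mul]⟩ (fun x hx => ⟨hcl t ht x hx.1, by
      calc s * (t * x * t) = (s * t) * x * t := by group
        _ = t * (s * x) * t := by rw [hst]; group
        _ = t * (x * s) * t := by rw [hx.2]
        _ = t * x * (s * t) := by group
        _ = t * x * (t * s) := by rw [hst]
        _ = t * x * t * s := by group⟩) h1
  haveI : Nonempty {x : G // ((x ∈ N ∧ x * x = 1) ∧ s * x = x * s) ∧ t * x = x * t} :=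
    ⟨⟨1, ⟨⟨N.one_mem, one_mul 1⟩, by rw [mul_one, one_mul]⟩, by rw [mul_one, one_mul]⟩⟩
  have h3 : 1 < Nat.card {x : G // ((x ∈ N ∧ x * x = 1) ∧ s * x = x * s) ∧ t * x = x * t} := by
    have := Nat.card_pos (α := {x : G // ((x ∈ N ∧ x * x = 1) ∧ s * x = x * s) ∧ t * x = x * t})
    have := Nat.le_of_dvd this h2
    omega
  obtain ⟨x, y, hxy⟩ := (Finite.one_lt_card_iff_nontrivial.1 h3).exists_pair_ne
  by_cases hx : x.1 = 1
  · exact ⟨y.1, y.2.1.1.1, y.2.1.1.2, fun h => hxy (Subtype.ext (hx.trans h.symm)), y.2.1.2, y.2.2⟩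
  · exact ⟨x.1, x.2.1.1.1, x.2.1.1.2, hx, x.2.1.2, x.2.2⟩

/-- A simple group with an involution with small centralizer is small. -/
theorem simple_bound {S : Type} [Group S] [Finite S] [IsSimpleGroup S] {x : S} (hx : orderOf x = 2) :
    Nat.card S ≤ 2 + (cc x * cc x).factorial := by
  classical
  have heven : Even (Nat.card S) := even_iff_two_dvd.2 (hx ▸ orderOf_dvd_natCard x)
  by_cases hc : ∃ z : S, orderOf z = 2 ∧ z ∈ center S
  · obtain ⟨z, hz, hzc⟩ := hc
    have hN : (zpowers z).Normal := ⟨fun a ha g => by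
      rw [(mem_center_iff.1 (zpowers_le.2 hzc ha) g), mul_inv_cancel_right]; exact ha⟩
    rcases hN.eq_bot_or_eq_top with h | h
    · rw [zpowers_eq_bot] at h
      rw [h, orderOf_one] at hz
      exact absurd hz (by norm_num)
    · have : Nat.card S = 2 := by rw [← Subgroup.card_top, ← h, Nat.card_zpowers, hz]
      omega
  simp only [not_exists, not_and] at hc
  obtain ⟨H, hH, hmax⟩ := CfsgLib.BrauerFowler.exists_max_proper (G := S)
  rcases CfsgLib.BrauerFowler.main_estimate heven hc hmax with ⟨K, hK⟩ | hlt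
  · haveI := Subgroup.normal_of_index_eq_two hK
    rcases (inferInstance : K.Normal).eq_bot_or_eq_top with h | h
    · subst h
      rw [index_bot] at hK
      omega
    · rw [h, index_top] at hK
      omega
  · set n := Nat.card {t : S // orderOf t = 2}
    have h1 : Nat.card S ≤ n * cc x := CfsgLib.BrauerFowler.card_le_invol_mul hx
    have hn : n ≤ Nat.card S := Finite.card_subtype_le _
    have hidx := H.card_mul_index
    have hbound : H.index ≤ cc x * cc x := by
      have h2 : Nat.card S * Nat.card S < Nat.card H * Nat.card S * (cc x * cc x) := by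
        calc Nat.card S * Nat.card S ≤ (n * cc x) * (n * cc x) := Nat.mul_le_mul h1 h1
          _ = n ^ 2 * (cc x * cc x) := by ring
          _ < _ := Nat.mul_lt_mul_of_pos_right (by nlinarith [Nat.card_pos (α := H)])
              (Nat.mul_pos Nat.card_pos Nat.card_pos)
      have h3 : Nat.card S < Nat.card H * (cc x * cc x) :=
        Nat.lt_of_mul_lt_mul_left (a := Nat.card S) (h2.trans_le (le_of_eq (by ring)))
      rw [← hidx] at h3
      exact (Nat.lt_of_mul_lt_mul_left h3).le
    have hcore : H.normalCore = ⊥ :=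
      ((inferInstance : H.normalCore.Normal).eq_bot_or_eq_top).resolve_right fun h =>
        hH (top_le_iff.1 (h ▸ H.normalCore_le))
    have hinj : Function.Injective (MulAction.toPermHom S (S ⧸ H)) := by
      rw [← MonoidHom.ker_eq_bot_iff, ← hcore, normalCore_eq_ker]
    have h4 := Nat.card_le_card_of_injective _ hinj
    rw [Nat.card_perm] at h4
    have h5 : (Nat.card (S ⧸ H)).factorial ≤ (cc x * cc x).factorial :=
      Nat.factorial_le (by simpa [Subgroup.index] using hbound)
    omega

/-- A minimal normal subgroup with an involution with small centralizer is small. -/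
theorem minimal_bound {N : Subgroup G} [N.Normal] (hN : N ≠ ⊥)
    (hmin : ∀ M : Subgroup G, M.Normal → M ≤ N → M = ⊥ ∨ M = N) {u : G} (huN : u ∈ N)
    (hu : u * u = 1) : Nat.card N ≤ ((cc u + 2) + (cc u * cc u).factorial) ^ cc u := by
  classical
  obtain ⟨S, _, m, hS, hm, ⟨e⟩⟩ := CfsgLib.MinimalNormal.exists_mulEquiv_pi_simple N hN hmin
  haveI : Finite (Fin m → S) := Finite.of_equiv _ e.toEquiv
  haveI : Finite S := Finite.of_injective (fun x : S => Function.update (1 : Fin m → S) ⟨0, hm⟩ x)
    (Function.update_injective (1 : Fin m → S) ⟨0, hm⟩)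
  set w := e ⟨u, huN⟩ with hw
  have hprod : ∏ i, cc (w i) ≤ cc u := by
    rw [show (∏ i, cc (w i)) = Nat.card (∀ i, centralizer ({w i} : Set S)) from (Nat.card_pi).symm]
    refine Nat.card_le_card_of_injective
      (fun f => (⟨((e.symm fun i => (f i : S)) : G), ?_⟩ : centralizer ({u} : Set G))) ?_
    · rw [mem_centralizer_singleton_iff]
      have h : (fun i => (f i : S)) * w = w * fun i => (f i : S) :=
        funext fun i => mem_centralizer_singleton_iff.1 (f i).2
      have h' := congrArg (fun x => ((e.symm x : N) : G)) h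
      simp only [map_mul, hw, MulEquiv.symm_apply_apply, Subgroup.coe_mul] at h'
      exact h'
    · intro f g h
      funext i
      exact Subtype.ext (congrFun (e.symm.injective (Subtype.ext (congrArg Subtype.val h :))) i)
  have h2 : ∀ i, 2 ≤ cc (w i) := fun i => by
    show 1 < Nat.card _
    rw [Finite.one_lt_card_iff_nontrivial]
    by_cases h : w i = 1
    · obtain ⟨y, hy⟩ := exists_ne (1 : S)
      exact ⟨⟨1, ⟨y, by rw [mem_centralizer_singleton_iff, h, mul_one, one_mul]⟩,
        fun e => hy (congrArg Subtype.val e).symm⟩⟩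
    · exact ⟨⟨1, ⟨w i, mem_centralizer_singleton_iff.2 rfl⟩, fun e => h (congrArg Subtype.val e).symm⟩⟩
  have hmle : m ≤ cc u := by
    refine (Nat.lt_two_pow_self (n := m)).le.trans (le_trans ?_ hprod)
    have := Finset.prod_le_prod' (s := (Finset.univ : Finset (Fin m))) fun i _ => h2 i
    simpa using this
  have hw2 : w ⟨0, hm⟩ * w ⟨0, hm⟩ = 1 := by
    have h : w * w = 1 := by
      rw [hw, ← map_mul, show (⟨u, huN⟩ : N) * ⟨u, huN⟩ = 1 from Subtype.ext hu, map_one]
    exact congrFun h _
  have hle0 : cc (w ⟨0, hm⟩) ≤ cc u := le_trans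
    (Finset.single_le_prod' (f := fun i => cc (w i)) (fun i _ => le_trans (by norm_num) (h2 i))
      (Finset.mem_univ _)) hprod
  have hScard : Nat.card S ≤ (cc u + 2) + (cc u * cc u).factorial := by
    by_cases h : w ⟨0, hm⟩ = 1
    · have : Nat.card S ≤ cc (w ⟨0, hm⟩) := by
        refine Nat.card_le_card_of_injective
          (fun y => (⟨y, by rw [mem_centralizer_singleton_iff, h, mul_one, one_mul]⟩ :
            centralizer ({w ⟨0, hm⟩} : Set S))) fun a b e => congrArg Subtype.val e
      omega
    · have h5 := simple_bound (CfsgLib.Invol.orderOf_eq_two hw2 h)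
      have h6 : (cc (w ⟨0, hm⟩) * cc (w ⟨0, hm⟩)).factorial ≤ (cc u * cc u).factorial :=
        Nat.factorial_le (Nat.mul_le_mul hle0 hle0)
      omega
  rw [Nat.card_congr e.toEquiv, Nat.card_pi, Finset.prod_const, Finset.card_univ, Fintype.card_fin]
  exact (Nat.pow_le_pow_left hScard m).trans (Nat.pow_le_pow_right (by omega) hmle)

/-- **Bound.** -/
theorem exists_bound : ∀ a c : ℕ, ∃ K : ℕ, ∀ (G : Type u) [Group G] [Finite G] (s t : G),
    (Nat.card G).factorization 2 ≤ a → s * s = 1 → t * t = 1 → s * t = t * s → s ≠ 1 → t ≠ 1 →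
      s ≠ t → cc s ≤ c → cc t ≤ c → cc (s * t) ≤ c → Nat.card G ≤ K := by
  intro a
  induction a with
  | zero =>
    refine fun c => ⟨0, fun G _ _ s t ha hs _ _ hs1 _ _ _ _ _ => ?_⟩
    exfalso
    have h2 : 2 ∣ Nat.card G := by
      rw [← CfsgLib.Invol.orderOf_eq_two hs hs1]; exact orderOf_dvd_natCard s
    have := Nat.prime_two.factorization_pos_of_dvd Nat.card_pos.ne' h2
    omega
  | succ a ih =>
    intro c
    choose F hF using ih
    -- bound for the odd core, for the quotient and for commuting involutions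
    set C := c * (c * c) * c with hC
    set c1 := C + 2 * F (2 * C) with hc1
    refine ⟨c * (c * c) * ((((c1 + 2) + (c1 * c1).factorial) ^ c1).factorial * c1),
      fun G _ _ s t ha hs ht hst hs1 ht1 hst1 hcs hct hcst => ?_⟩
    classical
    haveI := Fintype.ofFinite (Subgroup G)
    obtain ⟨O, hO, hOmax⟩ := Finset.exists_max_image
      (Finset.univ.filter fun O : Subgroup G => O.Normal ∧ Odd (Nat.card O)) (fun O => Nat.card O)
      ⟨⊥, Finset.mem_filter.2 ⟨Finset.mem_univ _, inferInstance, by rw [Subgroup.card_bot]; exact odd_one⟩⟩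
    obtain ⟨hOn, hOodd⟩ := (Finset.mem_filter.1 hO).2
    haveI := hOn
    have hnorm : ∀ a : G, a * a = 1 → ∀ x ∈ O, a * x * a ∈ O := fun a ha x hx => by
      have := hOn.conj_mem x hx a
      rwa [inv_eq_of_mul_eq_one_right ha] at this
    have hOcard : Nat.card O ≤ c * (c * c) :=
      (odd_card_le hOodd hs ht hst (hnorm s hs) (hnorm t ht)).trans
        (Nat.mul_le_mul hcs (Nat.mul_le_mul hct hcst))
    set π := QuotientGroup.mk' O with hπ
    have hker : Nat.card π.ker = Nat.card O := by rw [hπ, QuotientGroup.ker_mk']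
    have hnotin : ∀ a : G, a * a = 1 → a ≠ 1 → π a ≠ 1 := fun a ha ha1 h => by
      rw [hπ, QuotientGroup.mk'_apply, QuotientGroup.eq_one_iff] at h
      have hd : orderOf a ∣ Nat.card O := by
        have := orderOf_dvd_natCard (⟨a, h⟩ : O)
        rwa [← Subgroup.orderOf_coe] at this
      rw [CfsgLib.Invol.orderOf_eq_two ha ha1] at hd
      exact Nat.not_even_iff_odd.2 hOodd (even_iff_two_dvd.2 hd)
    have hst2 : (s * t) * (s * t) = 1 := by
      rw [← mul_assoc, mul_assoc s t s, ← hst, ← mul_assoc, hs, one_mul, ht]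
    have hstne : s * t ≠ 1 := fun h => hst1 (by
      calc s = s * (t * t) := by rw [ht, mul_one]
        _ = t := by rw [← mul_assoc, h, one_mul])
    set Q := G ⧸ O
    have hcard : Nat.card G = Nat.card Q * Nat.card O := O.card_eq_card_quotient_mul_card_subgroup
    have hbd : ∀ v : G, cc v ≤ c → cc (π v) ≤ C := fun v hv =>
      (cc_map_le π (QuotientGroup.mk'_surjective O) v).trans (by
        rw [hker, hC]; exact Nat.mul_le_mul hOcard hv)
    have hs' : π s * π s = 1 := by rw [← map_mul, hs, map_one]
    have ht' : π t * π t = 1 := by rw [← map_mul, ht, map_one]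
    have hst' : π s * π t = π t * π s := by rw [← map_mul, hst, map_mul]
    have hQa : (Nat.card Q).factorization 2 ≤ a + 1 :=
      le_trans ((Nat.factorization_le_iff_dvd Nat.card_pos.ne' Nat.card_pos.ne').2
        (Dvd.intro _ hcard.symm) 2) ha
    -- involutions commuting with the four group
    have hinvol : ∀ u : Q, u * u = 1 → u ≠ 1 → π s * u = u * π s → π t * u = u * π t →
        cc u ≤ c1 := by
      intro u hu hu1 hus hut
      by_cases hmem : u = π s ∨ u = π t ∨ u = π (s * t)
      · rcases hmem with h | h | h <;> subst h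
        · exact (hbd s hcs).trans (Nat.le_add_right _ _)
        · exact (hbd t hct).trans (Nat.le_add_right _ _)
        · exact (hbd _ hcst).trans (Nat.le_add_right _ _)
      simp only [not_or] at hmem
      set X := centralizer ({u} : Set Q) with hX
      let uX : X := ⟨u, mem_centralizer_singleton_iff.2 rfl⟩
      let sX : X := ⟨π s, mem_centralizer_singleton_iff.2 hus⟩
      let tX : X := ⟨π t, mem_centralizer_singleton_iff.2 hut⟩
      let Z := zpowers uX
      have huX : orderOf uX = 2 := by
        rw [← Subgroup.orderOf_coe]; exact CfsgLib.Invol.orderOf_eq_two hu hu1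
      haveI : Z.Normal := ⟨fun x hx g => by
        obtain ⟨k, rfl⟩ := mem_zpowers_iff.1 hx
        have hcomm : Commute g uX := Subtype.ext (mem_centralizer_singleton_iff.1 g.2)
        rw [(hcomm.zpow_right k).eq, mul_inv_cancel_right]
        exact hx⟩
      have hZ : ∀ x : X, x ∈ Z → (x : Q) = 1 ∨ (x : Q) = u := fun x hx => by
        obtain ⟨k, rfl⟩ := mem_zpowers_iff.1 hx
        rw [SubgroupClass.coe_zpow]
        rcases Int.even_or_odd k with ⟨j, rfl⟩ | ⟨j, rfl⟩
        · left
          rw [← two_mul, zpow_mul, zpow_two, show ((uX : X) : Q) = u from rfl, hu, one_zpow]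
        · right
          rw [zpow_add, zpow_mul, zpow_two, show ((uX : X) : Q) = u from rfl, hu, one_zpow, one_mul,
            zpow_one]
      set σ := QuotientGroup.mk' Z
      have hσ : ∀ x : X, (x : Q) ≠ 1 → (x : Q) ≠ u → σ x ≠ 1 := fun x h1 h2 h => by
        rw [show σ x = (x : X ⧸ Z) from rfl, QuotientGroup.eq_one_iff] at h
        rcases hZ x h with h | h
        exacts [h1 h, h2 h]
      have hcardX : Nat.card X = Nat.card (X ⧸ Z) * 2 := by
        rw [Z.card_eq_card_quotient_mul_card_subgroup, Nat.card_zpowers, huX]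
      have hXa : (Nat.card (X ⧸ Z)).factorization 2 ≤ a := by
        have h1 := (Nat.factorization_le_iff_dvd Nat.card_pos.ne' Nat.card_pos.ne').2
          (Subgroup.card_subgroup_dvd_card X) 2
        rw [hcardX, Nat.factorization_mul Nat.card_pos.ne' two_ne_zero, Finsupp.add_apply,
          Nat.prime_two.factorization_self] at h1
        omega
      have hccX : ∀ x : X, cc x ≤ cc (x : Q) := fun x =>
        Nat.card_le_card_of_injective (fun y => (⟨((y : X) : Q), mem_centralizer_singleton_iff.2
          (congrArg Subtype.val (mem_centralizer_singleton_iff.1 y.2))⟩ :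
            centralizer ({(x : Q)} : Set Q)))
          fun y z h => Subtype.ext (Subtype.ext (congrArg Subtype.val h :))
      have hcσ : ∀ x : X, cc (x : Q) ≤ C → cc (σ x) ≤ 2 * C := fun x hx =>
        (cc_map_le σ (QuotientGroup.mk'_surjective Z) x).trans (by
          rw [QuotientGroup.ker_mk', Nat.card_zpowers, huX]
          exact Nat.mul_le_mul_left _ ((hccX x).trans hx))
      have hprod : ((sX * tX : X) : Q) = π (s * t) := (map_mul π s t).symm
      have hne : σ sX ≠ σ tX := fun h => by
        refine hσ (sX * tX) (by rw [hprod]; exact hnotin _ hst2 hstne)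
          (by rw [hprod]; exact fun e => hmem.2.2 e.symm) ?_
        rw [map_mul, h, ← map_mul, show tX * tX = 1 from Subtype.ext ht', map_one]
      have hrec := hF (2 * C) (X ⧸ Z) (σ sX) (σ tX) hXa
        (by rw [← map_mul, show sX * sX = 1 from Subtype.ext hs', map_one])
        (by rw [← map_mul, show tX * tX = 1 from Subtype.ext ht', map_one])
        (by rw [← map_mul, show sX * tX = tX * sX from Subtype.ext hst', map_mul])
        (hσ _ (hnotin _ hs hs1) fun e => hmem.1 e.symm)
        (hσ _ (hnotin _ ht ht1) fun e => hmem.2.1 e.symm) hne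
        (hcσ _ (hbd s hcs)) (hcσ _ (hbd t hct))
        (by rw [← map_mul]; exact hcσ _ (by rw [hprod]; exact hbd _ hcst))
      show Nat.card X ≤ c1
      omega
    -- a minimal normal subgroup of the quotient
    haveI := Fintype.ofFinite (Subgroup Q)
    haveI : Nontrivial Q := ⟨π s, 1, hnotin s hs hs1⟩
    obtain ⟨N, hN, hNmin⟩ := Finset.exists_min_image
      (Finset.univ.filter fun N : Subgroup Q => N.Normal ∧ N ≠ ⊥) (fun N => Nat.card N)
      ⟨⊤, Finset.mem_filter.2 ⟨Finset.mem_univ _, inferInstance, top_ne_bot⟩⟩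
    obtain ⟨hNn, hNb⟩ := (Finset.mem_filter.1 hN).2
    haveI := hNn
    have hNeven : Even (Nat.card N) := by
      by_contra hodd
      have hcard2 : Nat.card (N.comap π) = Nat.card N * Nat.card O := by
        have h := Subgroup.index_comap_of_surjective N (QuotientGroup.mk'_surjective O)
        have h1 := (N.comap π).card_mul_index
        rw [h, hcard, ← N.card_mul_index, mul_right_comm] at h1
        exact Nat.eq_of_mul_eq_mul_right (Nat.pos_of_ne_zero Subgroup.index_ne_zero_of_finite) h1
      have h2 := hOmax (N.comap π) (Finset.mem_filter.2 ⟨Finset.mem_univ _, hNn.comap π, by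
        rw [hcard2]; exact (Nat.not_even_iff_odd.1 hodd).mul hOodd⟩)
      rw [hcard2] at h2
      have h3 : 1 < Nat.card N :=
        Nat.lt_of_le_of_ne Nat.card_pos fun h => hNb (Subgroup.card_eq_one.1 h.symm)
      have h4 : 0 < Nat.card O := Nat.card_pos
      nlinarith
    obtain ⟨u, huN, hu, hu1, hus, hut⟩ := exists_fixed_invol hNeven hs' ht' hst'
    have hucc := hinvol u hu hu1 hus hut
    have hmin : ∀ M : Subgroup Q, M.Normal → M ≤ N → M = ⊥ ∨ M = N := fun M hM hMN => by
      by_cases hMb : M = ⊥
      · exact Or.inl hMb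
      · exact Or.inr (Subgroup.eq_of_le_of_card_ge hMN
          (hNmin M (Finset.mem_filter.2 ⟨Finset.mem_univ _, hM, hMb⟩)))
    have hNcard : Nat.card N ≤ ((c1 + 2) + (c1 * c1).factorial) ^ c1 :=
      (minimal_bound hNb hmin huN hu).trans ((Nat.pow_le_pow_left (by
        have := Nat.factorial_le (Nat.mul_le_mul hucc hucc)
        omega) _).trans (Nat.pow_le_pow_right (by omega) hucc))
    have hQ : Nat.card Q ≤ (((c1 + 2) + (c1 * c1).factorial) ^ c1).factorial * c1 := by
      set φ := (MulAut.conjNormal : Q →* MulAut N)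
      have h1 := φ.ker.card_eq_card_quotient_mul_card_subgroup
      have h2 : Nat.card φ.ker ≤ c1 := le_trans (Nat.card_le_card_of_injective
        (fun q => (⟨(q : Q), by
          rw [mem_centralizer_singleton_iff]
          have h := congrArg (fun f : MulAut N => ((f ⟨u, huN⟩ : N) : Q)) (MonoidHom.mem_ker.1 q.2)
          simp only [φ, MulAut.conjNormal_apply, MulAut.one_apply] at h
          exact mul_inv_eq_iff_eq_mul.1 h⟩ : centralizer ({u} : Set Q)))
        fun a b h => Subtype.ext (congrArg Subtype.val h :)) hucc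
      have h3 : Nat.card (Q ⧸ φ.ker) ≤ (Nat.card N).factorial := by
        rw [Nat.card_congr (QuotientGroup.quotientKerEquivRange φ).toEquiv, ← Nat.card_perm]
        exact Nat.card_le_card_of_injective (fun f => (f : MulAut N).toEquiv) fun f g h =>
          Subtype.ext (MulEquiv.toEquiv_injective h)
      rw [h1]
      exact Nat.mul_le_mul (h3.trans (Nat.factorial_le hNcard)) h2
    rw [hcard, mul_comm (Nat.card Q)]
    exact Nat.mul_le_mul hOcard hQ

end CfsgLib.DeficiencyBound
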