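import Cfsg.Agent.DeficiencyBound.FourGroup
import Cfsg.Agent.Blocks.ThirdMain
import Cfsg.Agent.Blocks.BrauerFeit
import Cfsg.Agent.Blocks.Correspond
import Cfsg.Agent.Blocks.NormalSub
import Cfsg.Agent.Blocks.MinMax
import Cfsg.Agent.S4718

/-!
# Groups without non-principal 2-blocks of large defect

Centralizers of elementary abelian subgroups of order `2 ^ r` have a single 2-block, so are bounded;
downwards, the four-group bound applies to the quotient of each centralizer.
-/

set_option autoImplicit false
set_option linter.style.haveILetI false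
set_option linter.unusedSectionVars false

namespace CfsgLib.DeficiencyBound

open Cfsg CfsgLib.Block CfsgLib.Block.Chr Subgroup

universe u

/-- The hypothesis on the blocks. -/
def FewBlocks (M : Ideal AlgInt) (G : Type u) [Group G] (r : ℕ) : Prop :=
  ∀ B : Set (IrrCharacter G), IsPBlock M B → B ≠ principalBlock M G → blockDefect 2 B < r

/-- The centralizer of a large elementary subgroup has a single block. -/
theorem one_block {G : Type u} [Group G] [Finite G] {M : Ideal AlgInt} (hM : IsPModular 2 M)
    {r : ℕ} (hfew : FewBlocks M G r) {F : Subgroup G} (hF2 : IsPGroup 2 F)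
    (hFc : ∀ x ∈ F, ∀ y ∈ F, x * y = y * x) (hcard : Nat.card F = 2 ^ r)
    (b : Set (IrrCharacter (centralizer (F : Set G)))) (hb : IsPBlock M b) :
    b = principalBlock M (centralizer (F : Set G)) := by
  classical
  haveI := Fact.mk Nat.prime_two
  haveI := hM.2.1.isPrime
  haveI := Fintype.ofFinite G
  haveI := Fintype.ofFinite (centralizer (F : Set G))
  set H := centralizer (F : Set G) with hH
  have hFH : F ≤ H := fun x hx => by
    rw [hH, mem_centralizer_iff]
    exact fun y hy => hFc y hy x hx
  have hHN : H ≤ normalizer (F : Set G) := centralizer_le_normalizer _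
  haveI hFn : (F.subgroupOf H).Normal :=
    (Subgroup.normal_subgroupOf_iff_le_normalizer hFH).2 hHN
  obtain ⟨B, hind⟩ := exists_induced hM hF2 hFH le_rfl hHN hb
  obtain ⟨D, hD⟩ := exists_defectGroup (p := 2) hb hM
  obtain ⟨E, hE, hDE⟩ := defectGroup_le_induced hM hind hD
  have hBd : r ≤ blockDefect 2 B := by
    have h1 : Nat.card F ≤ Nat.card E := by
      refine le_trans ?_ (Subgroup.card_le_of_le hDE)
      rw [Subgroup.card_map_of_injective H.subtype_injective,
        ← Nat.card_congr (Subgroup.subgroupOfEquivOfLe hFH).toEquiv]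
      exact Subgroup.card_le_of_le (normal_le_defectGroup hM hb hD _
        (hF2.of_equiv (Subgroup.subgroupOfEquivOfLe hFH).symm))
    rw [hcard, card_defectGroup hM hind.2.1 hE] at h1
    exact (Nat.pow_le_pow_iff_right one_lt_two).1 h1
  have hB : B = principalBlock M G :=
    by_contra fun h => absurd (hfew B hind.2.1 h) (not_lt.2 hBd)
  exact (third_main hM ⟨B, hind⟩).1 (hB ▸ hind)

/-- A bound for the centralizers of all subgroups of an elementary abelian subgroup. -/
theorem exists_centralizer_bound (a : ℕ) : ∀ k : ℕ, ∃ K : ℕ, ∀ (G : Type u) [Group G] [Finite G]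
    (M : Ideal AlgInt) (r : ℕ) (E F : Subgroup G) (j : ℕ), IsPModular 2 M →
      (Nat.card G).factorization 2 ≤ a → FewBlocks M G r → (∀ x ∈ E, ∀ y ∈ E, x * y = y * x) →
      (∀ x ∈ E, x * x = 1) → Nat.card E = 2 ^ (r + 1) → F ≤ E → Nat.card F = 2 ^ j → j ≤ r →
      r ≤ j + k → Nat.card (centralizer (F : Set G)) ≤ K := by
  classical
  haveI := Fact.mk Nat.prime_two
  intro k
  induction k with
  | zero =>
    choose N hN using fun a' => Cfsg.Agent.S4718.result.{u} 2 a'
    refine ⟨(Finset.range (a + 1)).sup N, fun G _ _ M r E F j hM ha hfew hEc hE2 hEcard hFE hF hj hjk => ?_⟩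
    obtain rfl : j = r := by omega
    have hFp : IsPGroup 2 F := IsPGroup.iff_card.2 ⟨j, hF⟩
    have hone := one_block hM hfew hFp (fun x hx y hy => hEc x (hFE hx) y (hFE hy)) hF
    have hfac : (Nat.card (centralizer (F : Set G))).factorization 2 ≤ a :=
      le_trans ((Nat.factorization_le_iff_dvd Nat.card_pos.ne' Nat.card_pos.ne').2
        (Subgroup.card_subgroup_dvd_card _) 2) ha
    exact (hN _ _ M hM rfl hone).trans
      (Finset.le_sup (f := N) (Finset.mem_range.2 (Nat.lt_succ_of_le hfac)))
  | succ k ih =>
    obtain ⟨K, hK⟩ := ih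
    obtain ⟨K', hK'⟩ := exists_bound.{u} a (2 ^ a * K)
    refine ⟨K + 2 ^ a * K', fun G _ _ M r E F j hM ha hfew hEc hE2 hEcard hFE hF hj hjk => ?_⟩
    by_cases hjk' : r ≤ j + k
    · exact (hK G M r E F j hM ha hfew hEc hE2 hEcard hFE hF hj hjk').trans (Nat.le_add_right _ _)
    set X := centralizer (F : Set G) with hX
    have hFc : ∀ x ∈ F, ∀ y ∈ F, x * y = y * x := fun x hx y hy => hEc x (hFE hx) y (hFE hy)
    have hEX : E ≤ X := fun x hx => by
      rw [hX, mem_centralizer_iff]
      exact fun y hy => hEc y (hFE hy) x hx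
    have hFX : F ≤ X := hFE.trans hEX
    haveI : (F.subgroupOf X).Normal :=
      (Subgroup.normal_subgroupOf_iff_le_normalizer hFX).2 (centralizer_le_normalizer _)
    set π := QuotientGroup.mk' (F.subgroupOf X)
    have hkerF : Nat.card π.ker = 2 ^ j := by
      rw [QuotientGroup.ker_mk', Nat.card_congr (Subgroup.subgroupOfEquivOfLe hFX).toEquiv, hF]
    have hja : 2 ^ j ≤ 2 ^ a := by
      refine Nat.pow_le_pow_right two_pos (le_trans ?_ ha)
      rw [← Nat.Prime.pow_dvd_iff_le_factorization Nat.prime_two Nat.card_pos.ne', ← hF]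
      exact Subgroup.card_subgroup_dvd_card F
    -- adjoining one element
    have hext : ∀ v ∈ E, v ∉ F → ∃ F' : Subgroup G, F ≤ F' ∧ v ∈ F' ∧ F' ≤ E ∧
        Nat.card F' = 2 ^ (j + 1) := fun v hvE hvF => by
      have hvv : ∀ y ∈ F, y * v = v * y := fun y hy => hEc y (hFE hy) v hvE
      let F' : Subgroup G :=
        { carrier := {x | x ∈ F ∨ v * x ∈ F}
          one_mem' := Or.inl F.one_mem
          mul_mem' := fun {x y} hx hy => by
            rcases hx with hx | hx <;> rcases hy with hy | hy
            · exact Or.inl (F.mul_mem hx hy)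
            · refine Or.inr ?_
              rw [← mul_assoc, ← hvv x hx, mul_assoc]
              exact F.mul_mem hx hy
            · refine Or.inr ?_
              rw [← mul_assoc]
              exact F.mul_mem hx hy
            · refine Or.inl ?_
              have h := F.mul_mem hx hy
              rwa [show v * x * (v * y) = (v * v) * (x * y) by
                rw [show x = v * (v * x) by rw [← mul_assoc, hE2 v hvE, one_mul]]
                rw [show v * (v * (v * x)) = (v * v) * (v * x) by group, hE2 v hvE, one_mul]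
                calc v * x * (v * y) = (v * x * v) * y := by group
                  _ = (v * (v * x)) * y := by rw [hvv _ hx]
                  _ = _ := by group, hE2 v hvE, one_mul] at h
          inv_mem' := fun {x} hx => by
            rcases hx with hx | hx
            · exact Or.inl (F.inv_mem hx)
            · refine Or.inr ?_
              have hxE : x ∈ E := by
                have := E.mul_mem hvE (hFE hx)
                rwa [← mul_assoc, hE2 v hvE, one_mul] at this
              rwa [inv_eq_of_mul_eq_one_right (hE2 x hxE)] }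
      have hF'E : F' ≤ E := fun x hx => by
        rcases hx with hx | hx
        · exact hFE hx
        · have := E.mul_mem hvE (hFE hx)
          rwa [← mul_assoc, hE2 v hvE, one_mul] at this
      refine ⟨F', fun x hx => Or.inl hx, Or.inr (by rw [hE2 v hvE]; exact F.one_mem), hF'E, ?_⟩
      have hidx : (F.subgroupOf F').index = 2 := by
        rw [Subgroup.index_eq_two_iff]
        refine ⟨⟨v, Or.inr (by rw [hE2 v hvE]; exact F.one_mem)⟩, fun ⟨x, hx⟩ => ?_⟩
        have hc : x * v = v * x := hEc x (hF'E hx) v hvE
        simp only [mem_subgroupOf, Subgroup.coe_mul]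
        rcases hx with hx | hx
        · refine Or.inr ⟨hx, fun h => hvF ?_⟩
          have := F.mul_mem (F.inv_mem hx) h
          rwa [inv_mul_cancel_left] at this
        · refine Or.inl ⟨hc ▸ hx, fun h => hvF ?_⟩
          have := F.mul_mem hx (F.inv_mem h)
          rwa [mul_inv_cancel_right] at this
      have h1 := (F.subgroupOf F').card_mul_index
      rw [hidx, Nat.card_congr (Subgroup.subgroupOfEquivOfLe (fun x hx => Or.inl hx)).toEquiv,
        hF] at h1
      rw [← h1, pow_succ]
    have hcv : ∀ v : X, (v : G) ∈ E → (v : G) ∉ F → cc (π v) ≤ 2 ^ a * K := fun v hvE hvF => by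
      refine (cc_map_le π (QuotientGroup.mk'_surjective _) v).trans ?_
      rw [hkerF]
      refine Nat.mul_le_mul hja ?_
      obtain ⟨F', hFF', hvF', hF'E, hF'⟩ := hext v hvE hvF
      refine le_trans ?_ (hK G M r E F' (j + 1) hM ha hfew hEc hE2 hEcard hF'E hF'
        (by omega) (by omega))
      refine Nat.card_le_card_of_injective (fun g => (⟨((g : X) : G), ?_⟩ : centralizer (F' : Set G)))
        fun g g' h => Subtype.ext (Subtype.ext (congrArg Subtype.val h :))
      rw [mem_centralizer_iff]
      intro y hy
      have hgv : ((g : X) : G) * v = v * (g : X) := congrArg Subtype.val (mem_centralizer_singleton_iff.1 g.2)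
      have hgF : ∀ y ∈ F, y * ((g : X) : G) = ((g : X) : G) * y :=
        Subgroup.mem_centralizer_iff.1 (g : X).2
      have hmem : y ∈ F ∨ (v : G) * y ∈ F := by
        by_contra hcon
        rw [not_or] at hcon
        have hle : F'.subgroupOf F' = ⊤ := Subgroup.subgroupOf_self _
        -- `F'` is generated by `F` and `v`
        have hidx : (F.subgroupOf F').index = 2 := by
          have h1 := (F.subgroupOf F').card_mul_index
          rw [Nat.card_congr (Subgroup.subgroupOfEquivOfLe hFF').toEquiv, hF, hF', pow_succ] at h1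
          exact Nat.eq_of_mul_eq_mul_left (pow_pos two_pos j) h1
        have h2 := Subgroup.mul_mem_iff_of_index_two hidx (a := ⟨v, hvF'⟩) (b := ⟨y, hy⟩)
        simp only [mem_subgroupOf, Subgroup.coe_mul] at h2
        tauto
      rcases hmem with h | h
      · exact hgF y h
      · have hy' : y = (v : G) * ((v : G) * y) := by rw [← mul_assoc, hE2 _ hvE, one_mul]
        calc y * ((g : X) : G) = (v : G) * (((v : G) * y) * (g : X)) := by
              rw [← mul_assoc, ← hy']
          _ = ((v : G) * (g : X)) * ((v : G) * y) := by rw [hgF _ h, ← mul_assoc]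
          _ = ((g : X) : G) * y := by rw [← hgv, mul_assoc, ← hy']
    -- two elements spanning a four group modulo `F`
    obtain ⟨v, hvE, hvF⟩ : ∃ v ∈ E, v ∉ F := by
      by_contra hcon
      simp only [not_exists, not_and, not_not] at hcon
      have := Subgroup.card_le_of_le (show E ≤ F from hcon)
      rw [hF, hEcard, Nat.pow_le_pow_iff_right one_lt_two] at this
      omega
    obtain ⟨F₁, hFF₁, hvF₁, hF₁E, hF₁⟩ := hext v hvE hvF
    obtain ⟨w, hwE, hwF⟩ : ∃ w ∈ E, w ∉ F₁ := by
      by_contra hcon
      simp only [not_exists, not_and, not_not] at hcon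
      have := Subgroup.card_le_of_le (show E ≤ F₁ from hcon)
      rw [hF₁, hEcard, Nat.pow_le_pow_iff_right one_lt_two] at this
      omega
    let sX : X := ⟨v, hEX hvE⟩
    let tX : X := ⟨w, hEX hwE⟩
    have hvwF : v * w ∉ F := fun h => hwF (by
      have := F₁.mul_mem hvF₁ (hFF₁ h)
      rwa [← mul_assoc, hE2 v hvE, one_mul] at this)
    have hne : ∀ x : X, (x : G) ∉ F → π x ≠ 1 := fun x hx h => by
      rw [show π x = (x : X ⧸ F.subgroupOf X) from rfl, QuotientGroup.eq_one_iff] at h
      exact hx h
    have htt : tX * tX = 1 := Subtype.ext (hE2 w hwE)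
    have hne' : π sX ≠ π tX := fun h => hne (sX * tX) hvwF (by
      rw [map_mul, h, ← map_mul, htt, map_one])
    have hQa : (Nat.card (X ⧸ F.subgroupOf X)).factorization 2 ≤ a :=
      le_trans ((Nat.factorization_le_iff_dvd Nat.card_pos.ne' Nat.card_pos.ne').2
        ((Subgroup.card_quotient_dvd_card _).trans (Subgroup.card_subgroup_dvd_card X)) 2) ha
    have hQ := hK' (X ⧸ F.subgroupOf X) (π sX) (π tX) hQa
      (by rw [← map_mul, show sX * sX = 1 from Subtype.ext (hE2 v hvE), map_one])
      (by rw [← map_mul, htt, map_one])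
      (by rw [← map_mul, show sX * tX = tX * sX from Subtype.ext (hEc v hvE w hwE), map_mul])
      (hne _ hvF) (hne _ fun h => hwF (hFF₁ h)) hne'
      (hcv _ hvE hvF) (hcv _ hwE fun h => hwF (hFF₁ h))
      (by rw [← map_mul]; exact hcv _ (E.mul_mem hvE hwE) hvwF)
    rw [(F.subgroupOf X).card_eq_card_quotient_mul_card_subgroup,
      Nat.card_congr (Subgroup.subgroupOfEquivOfLe hFX).toEquiv, hF, mul_comm]
    exact (Nat.mul_le_mul hja hQ).trans (Nat.le_add_left _ _)

/-- **The bound.** -/
theorem exists_group_bound (a : ℕ) : ∃ N : ℕ, ∀ (G : Type u) [Group G] [Finite G] (M : Ideal AlgInt)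
    (r : ℕ) (P : Sylow 2 G), IsPModular 2 M → Nat.card P = 2 ^ a → FewBlocks M G r →
    (∃ E : Subgroup G, E ≤ (P : Subgroup G) ∧ IsMulCommutative E ∧ (∀ x ∈ E, x * x = 1) ∧
      Nat.card E = 2 ^ (r + 1)) → Nat.card G ≤ N := by
  obtain ⟨K, hK⟩ := exists_centralizer_bound.{u} a a
  refine ⟨K, fun G _ _ M r P hM hP hfew ⟨E, hEP, hEc, hE2, hEcard⟩ => ?_⟩
  haveI := Fact.mk Nat.prime_two
  have hfac : (Nat.card G).factorization 2 = a := by
    have h := P.card_eq_multiplicity
    rw [hP] at h
    exact (Nat.pow_right_injective le_rfl h).symm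
  have hra : r + 1 ≤ a := by
    have := Subgroup.card_le_of_le hEP
    rw [hEcard] at this
    exact (Nat.pow_le_pow_iff_right one_lt_two).1 (this.trans_eq hP)
  have h := hK G M r E ⊥ 0 hM hfac.le hfew
    (fun x hx y hy => congrArg Subtype.val (hEc.is_comm.comm (⟨x, hx⟩ : E) ⟨y, hy⟩)) hE2 hEcard
    bot_le (by rw [Subgroup.card_bot, pow_zero]) (Nat.zero_le r) (by omega)
  rwa [show centralizer ((⊥ : Subgroup G) : Set G) = ⊤ from
    Subgroup.centralizer_eq_top_iff_subset.2 fun x hx => by
      rw [Subgroup.coe_bot, Set.mem_singleton_iff] at hx; rw [hx]; exact Subgroup.one_mem _,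
    Subgroup.card_top] at h

end CfsgLib.DeficiencyBound
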